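import Groth.Agent.CAlg9.BlowReg.ChartAlg
import Groth.Agent.CAlg1.H1QReg
import Mathlib.RingTheory.TensorProduct.Basic

/-!
# Charts of blow-ups in H₁-regular centres commute with base change
-/

set_option autoImplicit false
set_option linter.style.haveILetI false

universe u

open MvPolynomial TensorProduct

noncomputable section

namespace Groth.Agent.BlowBC96

open CAlg9.BlowReg (coord homog homExp)

variable {A : Type u} [CommRing A] {r : ℕ} (f : Fin r → A) (i : Fin r)

local notation "Jx" => {j : Fin r // j ≠ i}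

/-- The linear relations of a chart. -/
def chartRel : Ideal (MvPolynomial Jx A) :=
  Ideal.span (Set.range fun j : Jx => C (f i) * X j - C (f j))

/-- The kernel of the presentation of a chart of a blow-up in an H₁-regular sequence. -/
theorem mem_chartRel (hf : CAlgX.IsH1Regular f) (P : MvPolynomial Jx A)
    (h : aeval (coord f i) P = 0) : P ∈ chartRel f i := by
  classical
  let N := P.support.sup fun d => ∑ j, d j
  have hN : ∀ d ∈ P.support, ∑ j, d j ≤ N := fun d hd =>
    Finset.le_sup (f := fun d : Jx →₀ ℕ => ∑ j, d j) hd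
  have h1 : algebraMap A (Localization.Away (f i)) (eval f (homog i N P)) =
      algebraMap A (Localization.Away (f i)) 0 := by
    rw [CAlg9.BlowReg.algebraMap_eval_homog f i P hN, h, map_zero]
    exact mul_zero _
  obtain ⟨⟨_, m, rfl⟩, hm⟩ := (IsLocalization.eq_iff_exists (Submonoid.powers (f i)) _).1 h1
  simp only [mul_zero] at hm
  let H : MvPolynomial (Fin r) A := monomial (Finsupp.single i m) 1 * homog i N P
  have h2 : H ∈ CAlg1.binomIdeal f := by
    refine CAlg1.mem_binomIdeal_of_eval_eq_zero f hf (m + N) H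
      ((isHomogeneous_monomial _ (Finsupp.degree_single ..)).mul (CAlg9.BlowReg.isHomogeneous_homog i P hN)) ?_
    rw [map_mul, eval_monomial, one_mul,
      Finsupp.prod_single_index (h := fun n e => f n ^ e) (pow_zero _), hm]
  let v : Fin r → MvPolynomial Jx A := fun l => if hl : l = i then 1 else X ⟨l, hl⟩
  have hv : ∀ l, C (f i) * v l - C (f l) ∈ chartRel f i := by
    intro l
    simp only [v]
    split_ifs with hl
    · rw [hl, mul_one, sub_self]; exact zero_mem _
    · exact Ideal.subset_span ⟨⟨l, hl⟩, rfl⟩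
  have h3 : aeval v H ∈ chartRel f i := by
    suffices hle : (CAlg1.binomIdeal f).map (aeval v : MvPolynomial (Fin r) A →ₐ[A] _).toRingHom ≤
        chartRel f i from hle (Ideal.mem_map_of_mem _ h2)
    rw [CAlg1.binomIdeal, Ideal.map_span, Ideal.span_le]
    rintro _ ⟨_, ⟨⟨a, b⟩, rfl⟩, rfl⟩
    show aeval v (C (f b) * X a - C (f a) * X b) ∈ chartRel f i
    rw [map_sub, map_mul, map_mul, aeval_X, aeval_X, aeval_C, aeval_C]
    have : algebraMap A (MvPolynomial Jx A) (f b) * v a - algebraMap A (MvPolynomial Jx A) (f a) * v b =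
        v b * (C (f i) * v a - C (f a)) - v a * (C (f i) * v b - C (f b)) := by
      rw [MvPolynomial.algebraMap_eq]; ring
    rw [this]
    exact Ideal.sub_mem _ (Ideal.mul_mem_left _ _ (hv a)) (Ideal.mul_mem_left _ _ (hv b))
  have h4 : aeval v H = P := by
    have hvi : v i = 1 := dif_pos rfl
    rw [map_mul, aeval_monomial, map_one, one_mul,
      Finsupp.prod_single_index (h := fun n e => v n ^ e) (pow_zero _), hvi, one_pow, one_mul, homog, map_sum]
    conv_rhs => rw [P.as_sum]
    refine Finset.sum_congr rfl fun d _ => ?_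
    rw [aeval_monomial, homExp, Finsupp.prod_add_index' (fun _ => pow_zero _) (fun _ _ _ => pow_add _ _ _),
      Finsupp.prod_single_index (h := fun n e => v n ^ e) (pow_zero _), hvi, one_pow, mul_one,
      Finsupp.prod_mapDomain_index_inj Subtype.val_injective, MvPolynomial.algebraMap_eq,
      monomial_eq (s := d)]
    refine congrArg (C (P.coeff d) * ·) (Finsupp.prod_congr fun j _ => ?_)
    show v j.1 ^ d j = _
    rw [show v j.1 = X j from dif_neg j.2]
  rwa [h4] at h3

theorem aeval_rel (j : Jx) : aeval (coord f i) (C (f i) * X j - C (f j) : MvPolynomial Jx A) = 0 := by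
  rw [map_sub, map_mul, aeval_C, aeval_C, aeval_X, sub_eq_zero]
  refine Subtype.ext ?_
  exact IsLocalization.mk'_spec' (Localization.Away (f i)) (f j) ⟨f i, Submonoid.mem_powers _⟩

theorem chartRel_le : chartRel f i ≤ RingHom.ker (aeval (R := A) (coord f i)).toRingHom := by
  rw [chartRel, Ideal.span_le]
  rintro _ ⟨j, rfl⟩
  exact aeval_rel f i j

variable (A' : Type u) [CommRing A'] [Algebra A A']

/-- The centre parameter stays a nonzerodivisor on the base changed chart. -/
theorem nzd_baseChange (hf : CAlgX.IsH1Regular f) (hf' : CAlgX.IsH1Regular (algebraMap A A' ∘ f)) :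
    algebraMap A (BlowUp.affineAlgebra A (Ideal.span (Set.range f)) (f i)) (f i) ⊗ₜ[A] (1 : A') ∈
      nonZeroDivisors (BlowUp.affineAlgebra A (Ideal.span (Set.range f)) (f i) ⊗[A] A') := by
  let B := BlowUp.affineAlgebra A (Ideal.span (Set.range f)) (f i)
  let f' : Fin r → A' := algebraMap A A' ∘ f
  let B' := BlowUp.affineAlgebra A' (Ideal.span (Set.range f')) (f' i)
  let π : MvPolynomial Jx A →ₐ[A] B := aeval (coord f i)
  let π' : MvPolynomial Jx A' →ₐ[A'] B' := aeval (coord f' i)
  letI : Algebra A B' := ((algebraMap A' B').comp (algebraMap A A')).toAlgebra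
  haveI : IsScalarTower A A' B' := IsScalarTower.of_algebraMap_eq fun _ => rfl
  let g : MvPolynomial Jx A →ₐ[A] B' := aeval (coord f' i)
  have hg : RingHom.ker π.toRingHom ≤ RingHom.ker g.toRingHom := by
    intro P hP
    have h := mem_chartRel f i hf P hP
    refine (Ideal.span_le (I := RingHom.ker g.toRingHom)).2 ?_ h
    rintro _ ⟨j, rfl⟩
    show g (C (f i) * X j - C (f j)) = 0
    have := aeval_rel f' i j
    rw [map_sub, map_mul, aeval_C, aeval_C, aeval_X] at this ⊢
    exact this
  let h₀ : B →ₐ[A] B' := AlgHom.liftOfSurjective π (CAlg9.BlowReg.aeval_coord_surjective f i) g hg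
  have hh₀ : ∀ P, h₀ (π P) = g P := fun P =>
    AlgHom.congr_fun (AlgHom.liftOfSurjective_comp π (CAlg9.BlowReg.aeval_coord_surjective f i) g hg) P
  let Φ : B ⊗[A] A' →ₐ[A] B' :=
    Algebra.TensorProduct.lift h₀ (IsScalarTower.toAlgHom A A' B') (fun _ _ => Commute.all _ _)
  let ψ : MvPolynomial Jx A' →+* B ⊗[A] A' :=
    eval₂Hom (Algebra.TensorProduct.includeRight : A' →ₐ[A] B ⊗[A] A').toRingHom
      fun j => coord f i j ⊗ₜ[A] (1 : A')
  have hcomp : ∀ P, Φ (ψ P) = π' P := by
    intro P
    refine RingHom.congr_fun (f := Φ.toRingHom.comp ψ) (g := π'.toRingHom) (MvPolynomial.ringHom_ext ?_ ?_) P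
    · intro a
      show Φ (ψ (C a)) = π' (C a)
      rw [eval₂Hom_C, aeval_C]
      show Φ ((1 : B) ⊗ₜ[A] a) = _
      rw [Algebra.TensorProduct.lift_tmul, map_one, one_mul]
      rfl
    · intro j
      show Φ (ψ (X j)) = π' (X j)
      rw [eval₂Hom_X', aeval_X, Algebra.TensorProduct.lift_tmul, map_one, mul_one]
      have := hh₀ (X j)
      rwa [aeval_X, aeval_X] at this
  have hsurj : Function.Surjective ψ := by
    have hmap : ∀ P : MvPolynomial Jx A, ψ (MvPolynomial.map (algebraMap A A') P) = π P ⊗ₜ[A] (1 : A') := by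
      intro P
      refine RingHom.congr_fun (f := ψ.comp (MvPolynomial.map (algebraMap A A')))
        (g := (Algebra.TensorProduct.includeLeft : B →ₐ[A] B ⊗[A] A').toRingHom.comp π.toRingHom)
        (MvPolynomial.ringHom_ext (fun a => ?_) fun j => ?_) P
      · show ψ (MvPolynomial.map _ (C a)) = π (C a) ⊗ₜ[A] (1 : A')
        rw [map_C, eval₂Hom_C, aeval_C]
        show (1 : B) ⊗ₜ[A] algebraMap A A' a = _
        rw [Algebra.algebraMap_eq_smul_one, Algebra.algebraMap_eq_smul_one, TensorProduct.smul_tmul]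
      · show ψ (MvPolynomial.map _ (X j)) = π (X j) ⊗ₜ[A] (1 : A')
        rw [map_X, eval₂Hom_X', aeval_X]
    intro z
    induction z using TensorProduct.induction_on with
    | zero => exact ⟨0, map_zero _⟩
    | tmul b a =>
      obtain ⟨P, rfl⟩ := CAlg9.BlowReg.aeval_coord_surjective f i b
      refine ⟨MvPolynomial.map (algebraMap A A') P * C a, ?_⟩
      rw [map_mul, hmap, eval₂Hom_C]
      show π P ⊗ₜ[A] (1 : A') * (1 : B) ⊗ₜ[A] a = _
      rw [Algebra.TensorProduct.tmul_mul_tmul, mul_one, one_mul]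
    | add x y hx hy =>
      obtain ⟨P, hP⟩ := hx
      obtain ⟨Q, hQ⟩ := hy
      exact ⟨P + Q, by rw [map_add, hP, hQ]⟩
  have hinj : ∀ z, Φ z = 0 → z = 0 := by
    intro z hz
    obtain ⟨P, rfl⟩ := hsurj z
    rw [hcomp] at hz
    have h := mem_chartRel f' i hf' P hz
    refine (Ideal.span_le (I := RingHom.ker ψ)).2 ?_ h
    rintro _ ⟨j, rfl⟩
    show ψ (C (algebraMap A A' (f i)) * X j - C (algebraMap A A' (f j))) = 0
    rw [map_sub, map_mul, eval₂Hom_C, eval₂Hom_C, eval₂Hom_X', sub_eq_zero]
    show (1 : B) ⊗ₜ[A] algebraMap A A' (f i) * coord f i j ⊗ₜ[A] (1 : A') = (1 : B) ⊗ₜ[A] algebraMap A A' (f j)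
    rw [Algebra.TensorProduct.tmul_mul_tmul, one_mul, mul_one, Algebra.algebraMap_eq_smul_one,
      Algebra.algebraMap_eq_smul_one, ← TensorProduct.smul_tmul, ← TensorProduct.smul_tmul]
    congr 1
    rw [Algebra.smul_def, Algebra.smul_def, mul_one]
    refine Subtype.ext ?_
    exact IsLocalization.mk'_spec' (Localization.Away (f i)) (f j) ⟨f i, Submonoid.mem_powers _⟩
  rw [mem_nonZeroDivisors_iff_right]
  intro z hz
  refine hinj z ((mem_nonZeroDivisors_iff_right.1 (FBlow13.affineAlgebra_nzd (A := A')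
    (𝔞 := Ideal.span (Set.range f')) (f' i))) _ ?_)
  have h := congrArg Φ hz
  rwa [map_mul, map_zero, Algebra.TensorProduct.lift_tmul, map_one, mul_one, AlgHom.commutes] at h

end Groth.Agent.BlowBC96
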