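import Groth.Agent.BlowBC96.Chart
import Groth.Agent.RegImm10.StrictRegular
import Groth.Agent.E4O.SepFibresScheme
import Groth.Agent.MP99.Basic
import Groth.Agent.Div89.KoszulH1
import Groth.Prelude.Def_RegImm

/-!
# Blow-ups in Koszul regular centres and Tor-independent base change
-/

set_option autoImplicit false
set_option linter.style.haveILetI false
set_option backward.isDefEq.respectTransparency.types false

universe u

open CategoryTheory CategoryTheory.Limits AlgebraicGeometry TensorProduct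

noncomputable section

namespace Groth.Agent.BlowBC96

theorem isH1Regular_comp_cast {A : Type u} [CommRing A] {m n : ℕ} (e : m = n) (f : Fin n → A)
    (h : CAlgX.IsH1Regular (f ∘ Fin.cast e)) : CAlgX.IsH1Regular f := by
  subst e
  exact h

theorem isH1Regular_map_get {A A' : Type u} [CommRing A] [CommRing A'] (φ : A → A') (rs : List A)
    (h : LCI.IsKoszulRegularSeq A' (rs.map φ)) : CAlgX.IsH1Regular (φ ∘ rs.get) := by
  refine isH1Regular_comp_cast (List.length_map (f := φ) (as := rs)) _ ?_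
  convert Div89.isH1Regular_of_koszul _ h using 1
  funext l
  simp

variable {X X' B : Scheme.{u}} (I : X.IdealSheafData)

theorem ideal_eq_top {U : X.affineOpens} (h : ∀ x ∈ U.1, x ∉ I.support) : I.ideal U = ⊤ := by
  by_contra hne
  obtain ⟨m, hm, hle⟩ := Ideal.exists_le_maximal _ hne
  let z : PrimeSpectrum Γ(X, U.1) := ⟨m, hm.isPrime⟩
  have hzU : U.2.fromSpec z ∈ U.1 := by
    have := Set.mem_range_self (f := U.2.fromSpec) z
    rwa [U.2.range_fromSpec] at this
  refine h _ hzU ((Scheme.IdealSheafData.mem_support_iff_of_mem hzU).2 ?_)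
  have h2 : z ∈ PrimeSpectrum.zeroLocus (I.ideal U : Set Γ(X, U.1)) := hle
  rw [← U.2.fromSpec_preimage_zeroLocus] at h2
  exact h2

/-- The exceptional ideal stays effective Cartier after a Tor-independent base change. -/
theorem isEffCartier_baseChange (hI : RegImm.IsRegularIdeal .koszul I) (g : X' ⟶ X)
    (hg : ∀ (U : X.affineOpens) (rs : List Γ(X, U.1)), LCI.IsKoszulRegularSeq Γ(X, U.1) rs →
      I.ideal U = Ideal.ofList rs → ∀ (V : X'.affineOpens) (e : V.1 ≤ g ⁻¹ᵁ U.1),
        LCI.IsKoszulRegularSeq Γ(X', V.1) (rs.map fun r => (g.appLE U.1 V.1 e).hom r))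
    (b : B ⟶ X) (hb : BlowUp.IsBlowUp b I) :
    BlowUp.IsEffCartierIdeal (I.comap (pullback.fst b g ≫ b)) := by
  intro w
  let x : X := b (pullback.fst b g w)
  by_cases hx : x ∈ I.support
  · obtain ⟨U, hxU, rs, hrs, hspan⟩ := hI x hx
    have hS : Ideal.span (Set.range rs.get) = I.ideal U := by
      rw [hspan, Set.range_list_get]
    obtain ⟨a, ⟨i, rfl⟩, V, hV, eV, ε, hwV, hε⟩ :=
      RegImm10.StrictRegular.exists_chart_of_span hb U.2 hS (x' := pullback.fst b g w) hxU
    have hxg : g (pullback.snd b g w) ∈ U.1 := by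
      rw [← Scheme.Hom.comp_apply, ← pullback.condition, Scheme.Hom.comp_apply]
      exact hxU
    obtain ⟨V', hV', hwV', eV'⟩ := exists_isAffineOpen_mem_and_subset (X := X')
      (x := pullback.snd b g w) (U := g ⁻¹ᵁ U.1) hxg
    obtain ⟨hW, ⟨θ⟩⟩ := E4O.Sep.exists_pullback_algEquiv b g hV hV' U.2 eV eV'
    let W := pullback.fst b g ⁻¹ᵁ V ⊓ pullback.snd b g ⁻¹ᵁ V'
    let A := Γ(X, U.1)
    let f : Fin rs.length → A := rs.get
    letI : Algebra A Γ(B, V) := (b.appLE U.1 V eV).hom.toAlgebra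
    letI : Algebra A Γ(X', V') := (g.appLE U.1 V' eV').hom.toAlgebra
    letI : Algebra Γ(B, V) Γ(pullback b g, W) := ((pullback.fst b g).appLE V W inf_le_left).hom.toAlgebra
    have hW' : ∀ y ∈ W, y ∈ (pullback.fst b g ≫ b) ⁻¹ᵁ U.1 := fun y hy => eV hy.1
    refine ⟨⟨W, hW⟩, ⟨hwV, hwV'⟩, θ (algebraMap A Γ(B, V) (f i) ⊗ₜ[A] 1), ?_, ?_⟩
    · have hH := Div89.isH1Regular_of_koszul rs hrs
      have hH' : CAlgX.IsH1Regular (algebraMap A Γ(X', V') ∘ f) :=
        isH1Regular_map_get (fun r => (g.appLE U.1 V' eV').hom r) rs (hg U rs hrs hspan ⟨V', hV'⟩ eV')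
      have key := nzd_baseChange f i Γ(X', V') hH hH'
      let J := BlowUp.affineAlgebra A (I.ideal U) (f i)
      let ε' : J ≃ₐ[A] Γ(B, V) := AlgEquiv.ofRingEquiv (f := ε) hε
      have key' : algebraMap A J (f i) ⊗ₜ[A] (1 : Γ(X', V')) ∈ nonZeroDivisors (J ⊗[A] Γ(X', V')) := by
        have aux : ∀ (I₀ : Ideal A), Ideal.span (Set.range f) = I₀ →
            algebraMap A (BlowUp.affineAlgebra A I₀ (f i)) (f i) ⊗ₜ[A] (1 : Γ(X', V')) ∈
              nonZeroDivisors (BlowUp.affineAlgebra A I₀ (f i) ⊗[A] Γ(X', V')) := by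
          rintro _ rfl
          exact key
        exact aux _ hS
      let Θ : (J ⊗[A] Γ(X', V')) ≃* Γ(pullback b g, W) :=
        (Algebra.TensorProduct.congr ε' (AlgEquiv.refl (A₁ := Γ(X', V')))).toMulEquiv.trans θ.toMulEquiv
      have h := MulEquivClass.map_nonZeroDivisors Θ ▸ Submonoid.mem_map.2 ⟨_, key', rfl⟩
      show θ (algebraMap A Γ(B, V) (f i) ⊗ₜ[A] 1) ∈ _
      rwa [← ε'.commutes (f i)]
    · rw [MP99.ideal_comap I (pullback.fst b g ≫ b) U ⟨W, hW⟩ hW']
      have hW1 : (pullback.fst b g ≫ b).appLE U.1 W hW' =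
          b.appLE U.1 V eV ≫ (pullback.fst b g).appLE V W inf_le_left := by
        rw [Scheme.Hom.appLE_comp_appLE]
      have hθ : θ (algebraMap A Γ(B, V) (f i) ⊗ₜ[A] 1) =
          ((pullback.fst b g).appLE V W inf_le_left).hom ((b.appLE U.1 V eV).hom (f i)) :=
        θ.commutes ((b.appLE U.1 V eV).hom (f i))
      have hVI : (I.ideal U).map (b.appLE U.1 V eV).hom = Ideal.span {(b.appLE U.1 V eV).hom (f i)} := by
        refine le_antisymm (Ideal.map_le_iff_le_comap.2 fun y hy => ?_)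
          ((Ideal.span_singleton_le_iff_mem _).2 (Ideal.mem_map_of_mem _ (hS ▸ Ideal.subset_span ⟨i, rfl⟩)))
        obtain ⟨c, hc⟩ := FBlow13.affineAlgebra_div (a := f i) hy
        exact Ideal.mem_span_singleton'.2 ⟨ε c, by rw [← hε, ← hε, hc, map_mul]⟩
      rw [hθ, hW1, CommRingCat.hom_comp, ← Ideal.map_map, hVI, Ideal.map_span, Set.image_singleton]
  · obtain ⟨U, hU, hxU, hsub⟩ := exists_isAffineOpen_mem_and_subset (X := X) (x := x)
      (U := ⟨(I.support : Set X)ᶜ, I.support.isClosed.isOpen_compl⟩) hx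
    have htop : I.ideal ⟨U, hU⟩ = ⊤ := ideal_eq_top I fun y hy => hsub hy
    obtain ⟨W, hW, hwW, eW⟩ := exists_isAffineOpen_mem_and_subset (X := pullback b g) (x := w)
      (U := (pullback.fst b g ≫ b) ⁻¹ᵁ U) hxU
    refine ⟨⟨W, hW⟩, hwW, 1, one_mem _, ?_⟩
    rw [MP99.ideal_comap I _ ⟨U, hU⟩ ⟨W, hW⟩ eW, htop, Ideal.map_top, Ideal.span_singleton_one]

/-- Blowing up in a Koszul regular centre commutes with Tor-independent base change. -/
theorem isBlowUp_baseChange (hI : RegImm.IsRegularIdeal .koszul I) (g : X' ⟶ X)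
    (hg : ∀ (U : X.affineOpens) (rs : List Γ(X, U.1)), LCI.IsKoszulRegularSeq Γ(X, U.1) rs →
      I.ideal U = Ideal.ofList rs → ∀ (V : X'.affineOpens) (e : V.1 ≤ g ⁻¹ᵁ U.1),
        LCI.IsKoszulRegularSeq Γ(X', V.1) (rs.map fun r => (g.appLE U.1 V.1 e).hom r))
    (b : B ⟶ X) (hb : BlowUp.IsBlowUp b I) :
    BlowUp.IsBlowUp (pullback.snd b g) (I.comap g) := by
  refine ⟨?_, fun Y h hh => ?_⟩
  · rw [← Scheme.IdealSheafData.comap_comp, ← pullback.condition]
    exact isEffCartier_baseChange I hI g hg b hb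
  · rw [← Scheme.IdealSheafData.comap_comp] at hh
    obtain ⟨k, hk, hku⟩ := hb.2 Y (h ≫ g) hh
    refine ⟨pullback.lift k h hk, pullback.lift_snd _ _ _, fun l hl => ?_⟩
    apply pullback.hom_ext
    · rw [pullback.lift_fst]
      refine hku _ ?_
      show (l ≫ pullback.fst b g) ≫ b = h ≫ g
      rw [Category.assoc, pullback.condition, ← Category.assoc, hl]
    · rw [pullback.lift_snd]
      exact hl

end Groth.Agent.BlowBC96
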